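import Mathlib
import Cfsg.Agent.Lib.Fi23Aut62.Main

/-!
Facts about the presented Fi23: the special elements 0, 1, 3 generate, and the centralizer of the
element of order 11 fixes two further transpositions.
-/

set_option autoImplicit false
set_option maxRecDepth 100000

namespace Cfsg.Agent.Lib.Fi24Aut41

open Cfsg.Agent.Lib.CosetTable
open Cfsg.Agent.Lib.Fi23Aut62

/-- a word one of whose powers is a transposition -/
def uW3 : List ℕ := (List.replicate 11 [0, 0, 0, 0, 0, 0, 0, 0, 3, 0, 0, 0, 0, 0, 0, 0, 0, 0, 0, 0, 3, 0, 0, 0, 0, 1, 0, 0, 0, 0, 0, 0, 0, 0, 1]).flatten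

/-- the point of that transposition -/
def y3 : ℕ := 18637

/-- paths from that point to the points of the generators -/
def paths3 : List (List ℕ) := [[0, 3, 0, 0, 3, 0, 1, 1, 1, 0, 1, 0, 1], [0, 0, 3, 0, 0, 1, 1, 3, 0, 1, 0, 3, 0, 1], [3, 0, 1, 0, 3, 0, 0, 0, 0, 3, 0, 3], [0, 3, 0, 0, 1, 0, 1, 3, 0, 1, 0, 1, 3], [1, 1, 3, 0, 1, 1, 1, 3, 0, 1, 0], [0, 0, 0, 1, 0, 3, 0, 0, 3, 0, 3, 0, 0, 0], [3, 0, 0, 0, 0, 3, 0, 0, 3, 0, 0], [1, 3, 0, 1, 3, 0, 1, 1, 0, 1, 0, 1], [1, 3, 0, 1, 0, 1, 0, 1, 3], [0, 0, 1, 0, 1, 3, 0, 3, 0, 3, 0, 3]]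

/-- the letters of the special elements used -/
noncomputable def letterOK (a : ℕ) : Bool := memL a [0, 1, 3]

theorem u3_ok : andB (allL letterOK uW3)
    (andB (Nat.blt y3 31671) (rangeAll (fun b => Nat.beq (dv y3 b) (walkS uW3 b)) 9 0)) = true := by
  decide +kernel

/-- path number `s` leads to the point of generator `s` -/
noncomputable def path3OK (s : ℕ) : Bool :=
  andB (allL letterOK (paths3.getD s []))
    (Nat.beq (walkS (paths3.getD s []) y3) (natAt qs s))

theorem path3_ok : rangeAll path3OK 10 0 = true := by decide +kernel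

theorem lt_of_letterOK {a : ℕ} (h : letterOK a = true) : a < 5 := by
  have := memL_iff.1 h
  simp at this
  omega

/-- the subgroup generated by the special elements 0, 1, 3 -/
noncomputable def gen013 : Subgroup G := Subgroup.closure {se 0, se 1, se 3}

theorem se_mem_gen013 {a : ℕ} (h : letterOK a = true) : se a ∈ gen013 := by
  refine Subgroup.subset_closure ?_
  have := memL_iff.1 h
  simp at this
  rcases this with rfl | rfl | rfl <;> simp

theorem gen013_eq_top : gen013 = ⊤ := by
  have hu := u3_ok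
  simp only [andB_eq, Bool.and_eq_true, blt_iff] at hu
  obtain ⟨hul, hy, hub⟩ := hu
  have hl : ∀ a ∈ uW3, letterOK a = true := fun a ha => allL_spec hul a ha
  have hd : d y3 = eval se uW3 := eq_of_base fun b hb => by
    have hb' : b < 31671 := by omega
    rw [pt_evalS (fun a ha => lt_of_letterOK (hl a ha)) hb', ← dv_spec hy hb',
      beq_iff.mp (rangeAll_spec hub b (Nat.zero_le _) (by omega))]
  have h0 : d y3 ∈ gen013 := hd ▸ eval_mem se _ fun a ha => se_mem_gen013 (hl a ha)
  rw [eq_top_iff, ← S1697.model_act.gen, Subgroup.closure_le]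
  rintro _ ⟨s, hs, rfl⟩
  have hs' : s < 10 := hs
  have hp := rangeAll_spec path3_ok s (Nat.zero_le _) (by omega)
  simp only [path3OK, andB_eq, Bool.and_eq_true, beq_iff] at hp
  have hl' : ∀ a ∈ paths3.getD s [], letterOK a = true := fun a ha => allL_spec hp.1 a ha
  have hP : eval se (paths3.getD s []) ∈ gen013 :=
    eval_mem se _ fun a ha => se_mem_gen013 (hl' a ha)
  have hd' := d_smul (eval se (paths3.getD s [])) hy
  rw [pt_evalS (fun a ha => lt_of_letterOK (hl' a ha)) hy, hp.2,
    (qs_spec (by omega : s < 14)).2, gv_eq_gn hs'] at hd'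
  rw [SetLike.mem_coe, hd']
  exact gen013.mul_mem (gen013.mul_mem hP h0) (gen013.inv_mem hP)

theorem se3_eqs : andB (eqS [3, 3] []) (eqS [1, 3] [3, 1]) = true := by decide +kernel

theorem se3_sq : se 3 * se 3 = 1 := by
  have h := se3_eqs
  rw [andB_eq, Bool.and_eq_true] at h
  simpa [eval] using eqS_spec h.1

theorem se3_comm : Commute (se 1) (se 3) := by
  have h := se3_eqs
  rw [andB_eq, Bool.and_eq_true] at h
  have h2 := eqS_spec h.2
  simp [eval] at h2
  exact h2.symm

/-- the two points fixed by the centralizer of `se 1` -/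
def fixA : ℕ := 20032
/-- the second one -/
def fixB : ℕ := 2306

/-- a twin of `se 1` moves the two points as `se 2` does -/
noncomputable def twinFixOK (w : List ℕ) : Bool :=
  andB (allL (fun a => Nat.blt a 5) w)
    (andB (Nat.beq (walkS w fixA) (sgt 2 fixA)) (Nat.beq (walkS w fixB) (sgt 2 fixB)))

theorem twinFix_ok : allL twinFixOK gB = true := by decide +kernel

theorem fix_of_commute {e : G} (he : Commute e (se 1)) : pt e fixA = fixA ∧ pt e fixB = fixB := by
  have hg : se 2 * e * se 1 = se 1 * se 1 * (se 2 * e) := by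
    rw [mul_assoc, he.eq, ← mul_assoc, se2_conj, mul_assoc]
  obtain ⟨w, hw, hz⟩ := twin_mem (a := 1) (by norm_num) hg (c := cB) (by decide) cycB_ok
    (ex := exB) exB_ok candB_ok progB_ok goodB_ok
  have h := allL_spec twinFix_ok w hw
  simp only [twinFixOK, andB_eq, Bool.and_eq_true, beq_iff] at h
  obtain ⟨hl, hA, hB⟩ := h
  have hl' : ∀ a ∈ w, a < 5 := fun a ha => blt_iff.mp (allL_spec hl a ha)
  constructor
  · apply pt_injective (se 2)
    rw [← pt_mul, hz, pt_evalS hl' (by decide), hA, pt_se (by norm_num) (by decide)]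
  · apply pt_injective (se 2)
    rw [← pt_mul, hz, pt_evalS hl' (by decide), hB, pt_se (by norm_num) (by decide)]

theorem se1_pow : se 1 ^ 11 = 1 := by
  rw [← eval_replicate]
  exact eqS_spec (v := []) (by decide +kernel)

theorem se1_ne : se 1 ≠ 1 := fun h => by
  have h1 : sgt 1 4 = 4 := by rw [← pt_se (by norm_num) (by norm_num), h, pt_one]
  exact absurd (beq_iff.mpr h1) (by decide +kernel)

theorem order_se1 : orderOf (se 1) = 11 := by
  haveI : Fact (Nat.Prime 11) := ⟨by norm_num⟩
  exact orderOf_eq_prime se1_pow se1_ne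

theorem card_centralizer_eleven {e : G} (he : orderOf e = 11) :
    Nat.card (Subgroup.centralizer ({e} : Set G)) = Nat.card (Subgroup.centralizer ({se 1} : Set G)) := by
  haveI : Fact (Nat.Prime 11) := ⟨by norm_num⟩
  have hf : (Nat.card G).factorization 11 = 1 := by
    rw [card_G, show (4089470473293004800 : ℕ) = 11 * 371770043026636800 by norm_num,
      Nat.factorization_mul (by norm_num) (by norm_num), Finsupp.add_apply,
      Nat.Prime.factorization_self (by norm_num),
      Nat.factorization_eq_zero_of_not_dvd (by norm_num)]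
  let P : Sylow 11 G := Sylow.ofCard (Subgroup.zpowers (se 1))
    (by rw [Nat.card_zpowers, order_se1, hf, pow_one])
  let Q : Sylow 11 G := Sylow.ofCard (Subgroup.zpowers e)
    (by rw [Nat.card_zpowers, he, hf, pow_one])
  obtain ⟨h, hh⟩ := MulAction.exists_smul_eq G Q P
  have hm : Subgroup.zpowers (h * e * h⁻¹) = Subgroup.zpowers (se 1) := by
    have : (Q : Subgroup G).map (MulAut.conj h).toMonoidHom = (P : Subgroup G) := by
      rw [← hh]; rfl
    rw [show (Q : Subgroup G) = Subgroup.zpowers e from rfl, MonoidHom.map_zpowers] at this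
    exact this
  have hc : ∀ x : G, Subgroup.centralizer ({x} : Set G) =
      Subgroup.centralizer ((Subgroup.zpowers x : Subgroup G) : Set G) := fun x => by
    rw [Subgroup.zpowers_eq_closure, Subgroup.centralizer_closure]
  rw [hc (se 1), ← hm, ← hc]
  refine Nat.card_congr ((MulAut.conj h).toEquiv.subtypeEquiv fun x => ?_)
  show x ∈ Subgroup.centralizer ({e} : Set G) ↔ h * x * h⁻¹ ∈ Subgroup.centralizer _
  rw [Subgroup.mem_centralizer_singleton_iff, Subgroup.mem_centralizer_singleton_iff,
    ← MulAut.conj_apply, ← MulAut.conj_apply, ← map_mul, ← map_mul, (MulAut.conj h).injective.eq_iff]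

end Cfsg.Agent.Lib.Fi24Aut41
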