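import Mathlib
import Cfsg.Agent.Lib.CosetTable.Lanes.Fi24.Class
import Cfsg.Agent.Lib.Fi24Aut41.Fi23Facts
import Cfsg.Agent.Lib.Fi23Three62.Basic

/-!
Fi23 inside the derived subgroup of Fi24 and its equivariant embedding of transpositions into lanes.
-/

set_option autoImplicit false
set_option maxRecDepth 100000

namespace Cfsg.Agent.Lib.Fi24Aut41

open Cfsg.Agent.Lib
open Cfsg.Agent.Lib.CosetTable.Lanes Cfsg.Agent.Lib.CosetTable.Lanes.Fi24

local notation "G24" => Cfsg.Spor.Fi24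

theorem gn_zero_mem_sub : gn 0 ∈ sub := gn_mem_sub (by decide) (by decide)

/-- a generator times `l` -/
noncomputable def hgenL (x : Cfsg.Spor.Fi23.Gen) : fi23Sub :=
  ⟨gn (nodeIdx x) * gn 0,
    mul_mem (gn_mem_sub (nodeIdx_spec x).1 (nodeIdx_spec x).2) gn_zero_mem_sub, by
    rcases derived_dichotomy (gn (nodeIdx x)) with h | h
    · have h' := MonoidHom.mem_ker.1 (commutator_le_ker h)
      rw [sgn_gn] at h'
      exact absurd h' (by decide)
    · exact h⟩

/-- reduction modulo `⟨l⟩` -/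
noncomputable def toBar : fi23Sub →* Bar :=
  (QuotientGroup.mk' lsub).comp (Subgroup.inclusion (inf_le_left : fi23Sub ≤ sub))

theorem toBar_injective : Function.Injective toBar := by
  rw [← MonoidHom.ker_eq_bot_iff, eq_bot_iff]
  intro y hy
  rcases mem_lsub ((QuotientGroup.eq_one_iff _).1 hy) with e | e
  · exact Subgroup.mem_bot.2 (Subtype.ext (congrArg Subtype.val e :))
  · refine absurd ?_ l_not_derived
    have e' : y.1 = gn 0 := congrArg Subtype.val e
    have h2 := y.2.2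
    rw [e'] at h2
    exact h2

theorem toBar_hgenL (x : Cfsg.Spor.Fi23.Gen) : toBar (hgenL x) = ybar x := by
  show QuotientGroup.mk' lsub (hgen x * hl) = _
  rw [map_mul, show QuotientGroup.mk' lsub hl = 1 from
    (QuotientGroup.eq_one_iff hl).2 (Subgroup.mem_zpowers hl), mul_one]
  rfl

theorem toBar_ev (w : List Cfsg.Spor.Fi23.Gen) :
    toBar (Fi23Mult.ev hgenL w) = Fi23Mult.ev ybar w := by
  rw [Fi23Mult.map_ev]
  simp only [toBar_hgenL]

theorem exists_iota : ∃ ψ : Cfsg.Spor.Fi23 →* fi23Sub, ∀ x, ψ (Fi23Mult.node x) = hgenL x :=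
  Fi23Mult.lift_node hgenL
    (fun x => toBar_injective (by simp only [map_mul, map_one, toBar_hgenL, ybar_sq]))
    (fun x z h => toBar_injective (by simp only [map_mul, toBar_hgenL, ybar_braid x z h]))
    (fun x z h => toBar_injective (by simp only [map_mul, toBar_hgenL]; exact (ybar_comm x z h).eq))
    (toBar_injective (by rw [map_pow, map_one, toBar_ev, spider_bar]))
    (toBar_injective (by rw [map_pow, map_one, toBar_ev, seven_bar]))

/-- Fi23 inside Fi24 -/
noncomputable def iota : Cfsg.Spor.Fi23 →* G24 := fi23Sub.subtype.comp exists_iota.choose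

theorem iota_mem (h : Cfsg.Spor.Fi23) : iota h ∈ fi23Sub := (exists_iota.choose h).2

theorem iota_gn {n : ℕ} (hn : n < 10) : iota (S1697.gn n) = gn (n + 2) * gn 0 := by
  have e : S1697.gn n = Fi23Mult.node (S1689.pres.gen n) := rfl
  have hi : ∀ n < 10, nodeIdx (S1689.pres.gen n) = n + 2 := by decide
  rw [e, iota, MonoidHom.comp_apply, exists_iota.choose_spec]
  show gn (nodeIdx _) * gn 0 = _
  rw [hi n hn]

theorem gn_ne_gn_zero : gn 2 * gn 0 ≠ 1 := by
  intro h
  have h2 : gn 2 = gn 0 := by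
    rw [eq_comm, ← mul_eq_one_iff_eq_inv.1 h |>.trans (gn_inv 0)]
  refine gn_two_three (Or.inl ?_)
  refine Subtype.ext ?_
  show gn 2 * gn 3 = 1
  have h3 := gn_cox (a := 2) (b := 3) (by decide) (by decide) (by decide)
  rw [if_pos (by decide)] at h3
  rw [h2] at h3 ⊢
  have hc : gn 0 * gn 3 = gn 3 * gn 0 := gn_comm 0 3 (by decide)
  have hsq : (gn 0 * gn 3) ^ 2 = 1 := by
    rw [sq, hc, show gn 3 * gn 0 * (gn 3 * gn 0) = gn 3 * (gn 0 * gn 3) * gn 0 by group, hc,
      show gn 3 * (gn 3 * gn 0) * gn 0 = gn 3 * gn 3 * (gn 0 * gn 0) by group, gn_mul_self,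
      gn_mul_self, mul_one]
  rwa [pow_succ, hsq, one_mul] at h3

theorem iota_injective : Function.Injective iota := by
  haveI := S1697.result.1
  rw [← MonoidHom.ker_eq_bot_iff]
  refine (Subgroup.Normal.eq_bot_or_eq_top (MonoidHom.normal_ker iota)).resolve_right fun h => ?_
  have h0 : S1697.gn 0 ∈ iota.ker := h ▸ Subgroup.mem_top _
  rw [MonoidHom.mem_ker, iota_gn (by norm_num)] at h0
  exact gn_ne_gn_zero h0

theorem iota_surj {g : G24} (hg : g ∈ fi23Sub) : ∃ h, iota h = g := by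
  haveI : Finite Cfsg.Spor.Fi23 := S1697.order_le.1
  have hinj : Function.Injective exists_iota.choose := fun a b e => iota_injective (by
    simp only [iota, MonoidHom.comp_apply, e])
  have hbij := (Nat.bijective_iff_injective_and_card _).2 ⟨hinj, by
    rw [S1697.result.2, fi23Sub_isFi23.2]⟩
  obtain ⟨h, hh⟩ := hbij.2 ⟨g, hg⟩
  exact ⟨h, congrArg Subtype.val hh⟩

theorem comm_l_iota (h : Cfsg.Spor.Fi23) : Commute (gn 0) (iota h) :=
  gn_zero_comm (iota_mem h).1

theorem phi_iota_pt (h : Cfsg.Spor.Fi23) : phi (iota h) pt = pt := sub_fix (iota_mem h).1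

theorem iota_of_fix {g : G24} (h1 : phi g pt = pt) (h2 : g ∈ commutator G24) : ∃ h, iota h = g :=
  iota_surj ⟨mem_sub_iff.2 h1, h2⟩

theorem transpAt_conj (g : G24) (i : Fin CosetTable.Lanes.Fi24.sys.size) :
    transpAt (phi g i) = g * transpAt i * g⁻¹ := by
  obtain ⟨x, rfl⟩ := reach i
  rw [← Equiv.Perm.mul_apply, ← map_mul, transpAt_phi, transpAt_phi]
  group

theorem commute_transp_iff (g : G24) (i : Fin CosetTable.Lanes.Fi24.sys.size) :
    Commute g (transpAt i) ↔ phi g i = i := by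
  rw [show Commute g (transpAt i) ↔ g * transpAt i * g⁻¹ = transpAt i from
    mul_inv_eq_iff_eq_mul.symm, ← transpAt_conj]
  exact transpAt_injective.eq_iff

/-- the lane of the generator `gn 3` -/
def lane3 : Fin CosetTable.Lanes.Fi24.sys.size :=
  ⟨305285, by rw [size_eq]; decide⟩

theorem lane3_eq : phi (pw gn [2, 3, 1, 2, 0, 1]) pt = lane3 := by
  apply Fin.ext
  rw [pw_phi _ (by decide), perm_pw_apply]
  exact (by decide +kernel :
    CosetTable.Lanes.permPos (CosetTable.Lanes.Fi24.sys.nets [2, 3, 1, 2, 0, 1]) base = 305285)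

theorem transpAt_lane3 : transpAt lane3 = gn 3 := by
  rw [← lane3_eq, transpAt_phi]
  have k1 : gn 0 * gn 1 * gn 0 * (gn 0 * gn 1)⁻¹ = gn 1 :=
    (braid_conj (by decide) (by decide) (by decide) (by decide)).symm
  have k2 : gn 1 * gn 2 * gn 1 * (gn 1 * gn 2)⁻¹ = gn 2 :=
    (braid_conj (by decide) (by decide) (by decide) (by decide)).symm
  have k3 : gn 2 * gn 3 * gn 2 * (gn 2 * gn 3)⁻¹ = gn 3 :=
    (braid_conj (by decide) (by decide) (by decide) (by decide)).symm
  have e : pw gn [2, 3, 1, 2, 0, 1] = gn 2 * gn 3 * (gn 1 * gn 2 * (gn 0 * gn 1)) := by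
    simp [CosetTable.Lanes.pw, mul_assoc]
  rw [e]
  generalize hp : gn 0 * gn 1 = p at k1 ⊢
  generalize hq : gn 1 * gn 2 = q at k2 ⊢
  generalize hr : gn 2 * gn 3 = r at k3 ⊢
  calc r * (q * p) * gn 0 * (r * (q * p))⁻¹
      = r * (q * (p * gn 0 * p⁻¹) * q⁻¹) * r⁻¹ := by group
    _ = gn 3 := by rw [k1, k2, k3]

/-- the lane of the member `p` of the class of Fi23 -/
noncomputable def la (p : ℕ) : Fin CosetTable.Lanes.Fi24.sys.size :=
  phi (iota (Fi23Aut62.tr p * (Fi23Aut62.tr 8004)⁻¹)) lane3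

theorem d_8004 : iota (Fi23Aut62.d 8004) * gn 0 = gn 3 := by
  have h := Fi23Aut62.qs_spec (s := 1) (by norm_num)
  have e : CosetTable.natAt Fi23Aut62.qs 1 = 8004 := by rfl
  rw [e] at h
  rw [h.2, Fi23Aut62.gv_eq_gn (by norm_num), iota_gn (by norm_num), mul_assoc, gn_mul_self, mul_one]

theorem iota_conj_mul_l (g a : Cfsg.Spor.Fi23) :
    iota g * (iota a * gn 0) * (iota g)⁻¹ = iota (g * a * g⁻¹) * gn 0 := by
  rw [map_mul, map_mul, map_inv, ← mul_assoc (iota g), mul_assoc _ (gn 0),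
    (comm_l_iota g).inv_right.eq, ← mul_assoc]

theorem transpAt_la {p : ℕ} (hp : p < 31671) :
    transpAt (la p) = iota (Fi23Aut62.d p) * gn 0 := by
  rw [la, transpAt_conj, transpAt_lane3, ← d_8004]
  set g := Fi23Aut62.tr p * (Fi23Aut62.tr 8004)⁻¹
  have hpt : Fi23Aut62.pt g 8004 = p := by
    have e : Fi23Aut62.pt (Fi23Aut62.tr 8004)⁻¹ 8004 = 0 := by
      rw [← congrArg (Fi23Aut62.pt (Fi23Aut62.tr 8004)⁻¹) (Fi23Aut62.pt_tr (p := 8004) (by norm_num)),
        Fi23Aut62.pt_inv_pt]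
    rw [Fi23Aut62.pt_mul, e, Fi23Aut62.pt_tr hp]
  conv_rhs => rw [← hpt, Fi23Aut62.d_smul g (by norm_num)]
  exact iota_conj_mul_l g _

theorem la_injective {p q : ℕ} (hp : p < 31671) (hq : q < 31671) (h : la p = la q) : p = q := by
  have e := congrArg transpAt h
  rw [transpAt_la hp, transpAt_la hq] at e
  exact Fi23Three62.d_injective hp hq (iota_injective (mul_right_cancel e))

theorem la_smul (h : Cfsg.Spor.Fi23) {p : ℕ} (hp : p < 31671) :
    phi (iota h) (la p) = la (Fi23Aut62.pt h p) := by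
  apply transpAt_injective
  rw [transpAt_conj, transpAt_la hp, transpAt_la (Fi23Aut62.pt_lt hp), Fi23Aut62.d_smul h hp]
  exact iota_conj_mul_l h _

theorem la_8004 : la 8004 = lane3 := by
  apply transpAt_injective
  rw [transpAt_la (by norm_num), transpAt_lane3, d_8004]

theorem la_ne_pt {p : ℕ} (hp : p < 31671) : la p ≠ pt := by
  intro h
  have e := congrArg transpAt h
  have hpt : transpAt pt = gn 0 := by
    have := transpAt_phi (1 : G24)
    simpa using this
  rw [transpAt_la hp, hpt, mul_eq_right, ← map_one iota] at e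
  have h1 : Fi23Aut62.d p = 1 := iota_injective e
  have h2 : Fi23Aut62.d 8004 = 1 := by
    have h3 := Fi23Aut62.d_smul (Fi23Aut62.tr 8004 * (Fi23Aut62.tr p)⁻¹) hp
    rw [Fi23Aut62.pt_mul, ← congrArg (Fi23Aut62.pt (Fi23Aut62.tr p)⁻¹) (Fi23Aut62.pt_tr hp),
      Fi23Aut62.pt_inv_pt, Fi23Aut62.pt_tr (by norm_num), h1] at h3
    simpa using h3
  have h4 := d_8004
  rw [h2, map_one, one_mul] at h4
  have h5 := congrArg (fun y => phi y lane3) h4
  have h6 : phi (gn 3) lane3 = lane3 := (commute_transp_iff _ _).1 (transpAt_lane3 ▸ Commute.refl _)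
  have h7 : transpAt lane3 = transpAt pt := by rw [transpAt_lane3, hpt, h4]
  have h8 := congrArg Fin.val (transpAt_injective h7)
  exact absurd h8 (by decide)

theorem la_l_fix {p : ℕ} (hp : p < 31671) : phi (gn 0) (la p) = la p := by
  rw [← commute_transp_iff, transpAt_la hp]
  exact (comm_l_iota _).mul_right (Commute.refl _)

end Cfsg.Agent.Lib.Fi24Aut41
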