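import Cfsg.Agent.Lib.Fi24Aut41.Fixed
import Cfsg.Agent.Lib.Fi24Aut41.Embed

/-!
Kernel checks: common fixed lanes of a few elements of Fi24.
-/

set_option autoImplicit false
set_option maxRecDepth 100000
set_option Elab.async false

namespace Cfsg.Agent.Lib.Fi24Aut41

open Cfsg.Agent.Lib
open Cfsg.Agent.Lib.CosetTable.Lanes Cfsg.Agent.Lib.CosetTable.Lanes.Fi24

/-- lanes fixed by `gn g * gn 3` for `4 ≤ g`: test planes -/
def testK : List (List ℕ × List ℕ) :=
  [([10, 3], [0, 1, 2, 4, 5]), ([9, 3], [5, 6]), ([8, 3], [0, 4]), ([7, 3], [1, 15]),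
    ([11, 3], [7, 13]), ([5, 3], [2, 11, 18]), ([4, 3], [1, 2]), ([6, 3], [0, 1])]

/-- lanes fixed by `gn 0`, `gn 1` and `gn g * gn 3` for `5 ≤ g` -/
def testT : List (List ℕ × List ℕ) :=
  [([0], [0]), ([1], [4, 5, 9, 17]), ([7, 3], [1]), ([5, 3], [7]), ([10, 3], [0, 1, 2, 3]),
    ([8, 3], [0, 3]), ([11, 3], [4, 12]), ([9, 3], [3, 5, 11]), ([6, 3], [0, 1])]

/-- lanes fixed by `gn 0` and `gn g` for `4 ≤ g` -/
def testTwo : List (List ℕ × List ℕ) :=
  [([0], [0]), ([4], [1]), ([6], [1]), ([8], [1]), ([10], [1]), ([5], [9, 10]), ([9], [4, 10]),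
    ([7], [5]), ([11], [8])]

theorem testK_spec : ∀ e ∈ testK, ∃ g < 12, 4 ≤ g ∧ e.1 = [g, 3] := by decide

theorem testT_spec : ∀ e ∈ testT, e.1 = [0] ∨ e.1 = [1] ∨ ∃ g < 12, 5 ≤ g ∧ e.1 = [g, 3] := by decide

theorem testTwo_spec : ∀ e ∈ testTwo,
    ∃ a < 12, e.1 = [a] ∧ adjI a 2 = false ∧ (a = 0 ∨ 3 ≤ a) := by decide

theorem fixK_ok : fixOnly testK [base, seed2, 305281] = true := by decide +kernel

theorem fixT_ok : fixOnly testT [305285] = true := by decide +kernel

theorem fixTwo_ok : fixMoved testTwo [3] [seed1] = true := by decide +kernel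

theorem lkc_ok : Nat.beq (CosetTable.Lanes.Fi24.sys.pos 0 seed2) 305281 = true := by decide +kernel

/-- the two fixed points of the element of order 11 in the class of Fi23 -/
noncomputable def fixYOK (p : ℕ) : Bool :=
  CosetTable.iteB (Nat.beq (Fi23Aut62.sgt 1 p) p) (Fi23Aut62.memL p [fixA, fixB]) true

theorem fixY_run1 : CosetTable.rangeAll fixYOK 8000 0 = true := by decide +kernel

theorem fixY_run2 : CosetTable.rangeAll fixYOK 8000 8000 = true := by decide +kernel

theorem fixY_run3 : CosetTable.rangeAll fixYOK 8000 16000 = true := by decide +kernel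

theorem fixY_run4 : CosetTable.rangeAll fixYOK 7671 24000 = true := by decide +kernel

theorem fixY_ok : CosetTable.Below fixYOK 31671 :=
  ((((CosetTable.Below.zero _).step (b := 8000) fixY_run1 rfl).step (b := 16000) fixY_run2 rfl).step
    (b := 24000) fixY_run3 rfl).step (b := 31671) fixY_run4 rfl

end Cfsg.Agent.Lib.Fi24Aut41
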