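import Mathlib
import Cfsg.Agent.Lib.CosetTable.Lanes.Fi24.Structure

/-!
Certified sets of common fixed lanes of words of the presented Fi24, computed on bit vectors.
-/

set_option autoImplicit false
set_option maxRecDepth 100000

namespace Cfsg.Agent.Lib.Fi24Aut41

open Cfsg.Agent.Lib.CosetTable.Lanes
open Cfsg.Agent.Lib.CosetTable.Lanes.Fi24

/-- add the lanes where the permutation changes one of the listed bits of the lane number -/
noncomputable def badGo (p : List Net) (bs : List ℕ) : ℕ → (ℕ → Bool) → Bool :=
  List.rec (motive := fun _ => ℕ → (ℕ → Bool) → Bool) (fun acc k => k acc)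
    (fun b _ ih acc k => strict (plane b (Nat.sub 18 b)) fun P =>
      strict (permRun p P) fun y => strict (Nat.lor acc (Nat.xor P y)) fun a => ih a k) bs

/-- the same for several words -/
noncomputable def badAll (ws : List (List ℕ × List ℕ)) : ℕ → (ℕ → Bool) → Bool :=
  List.rec (motive := fun _ => ℕ → (ℕ → Bool) → Bool) (fun acc k => k acc)
    (fun e _ ih acc k => badGo (sys.nets e.1) e.2 acc fun a => ih a k) ws

/-- the lanes listed -/
noncomputable def mask (keep : List ℕ) : ℕ :=
  List.rec (motive := fun _ => ℕ) 0 (fun i _ ih => Nat.lor (Nat.shiftLeft 1 i) ih) keep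

/-- every lane fixed by all the words is listed -/
noncomputable def fixOnly (ws : List (List ℕ × List ℕ)) (keep : List ℕ) : Bool :=
  strict (mask keep) fun K => badAll ws K fun acc => Nat.beq acc sys.full

/-- every lane fixed by all the words and moved by `m` is listed -/
noncomputable def fixMoved (ws : List (List ℕ × List ℕ)) (m : List ℕ) (keep : List ℕ) : Bool :=
  strict (mask keep) fun K => badAll ws K fun acc =>
    badGo (sys.nets m) planes 0 fun bm => Nat.beq (Nat.lor acc (Nat.xor sys.full bm)) sys.full

/-- value computed by `badGo` -/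
noncomputable def badVal (p : List Net) : List ℕ → ℕ → ℕ
  | [], acc => acc
  | b :: bs, acc =>
    badVal p bs (Nat.lor acc (Nat.xor (plane b (Nat.sub 18 b)) (permRun p (plane b (Nat.sub 18 b)))))

theorem badGo_eq (p : List Net) : ∀ (bs : List ℕ) (acc : ℕ) (k : ℕ → Bool),
    badGo p bs acc k = k (badVal p bs acc)
  | [], _, _ => rfl
  | b :: bs, acc, k => by
    show strict _ (fun P => strict (permRun p P) fun y =>
      strict (Nat.lor acc (Nat.xor P y)) fun a => badGo p bs a k) = _
    rw [strict_eq, strict_eq, strict_eq, badGo_eq p bs]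
    rfl

theorem nets_ok' : ∀ w : List ℕ, permOK sys.size (sys.nets w)
  | [] => fun n hn => (List.not_mem_nil hn).elim
  | a :: w => fun n hn => by
    rw [sys.nets_cons, List.mem_append] at hn
    exact hn.elim (perm_ok a n) (nets_ok' w n)

theorem badVal_of_fixed {w : List ℕ} {i : ℕ} (h : permPos (sys.nets w) i = i) :
    ∀ (bs : List ℕ) (acc : ℕ), (badVal (sys.nets w) bs acc).testBit i = acc.testBit i
  | [], _ => rfl
  | b :: bs, acc => by
    rw [badVal, badVal_of_fixed h bs]
    show (acc ||| (plane b _ ^^^ permRun (sys.nets w) (plane b _))).testBit i = _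
    rw [Nat.testBit_or, Nat.testBit_xor, testBit_permRun (nets_ok' w), h]
    simp

theorem badVal_mono {p : List Net} {i : ℕ} :
    ∀ (bs : List ℕ) (acc : ℕ), acc.testBit i = true → (badVal p bs acc).testBit i = true
  | [], _, h => h
  | b :: bs, acc, h => by
    refine badVal_mono bs _ ?_
    show (acc ||| _).testBit i = true
    rw [Nat.testBit_or, h, Bool.true_or]

theorem badVal_of_moved {w : List ℕ} {i b : ℕ} (hb : b ≤ 18) (hi : i < sys.size)
    (hne : i.testBit b ≠ (permPos (sys.nets w) i).testBit b) :
    ∀ (bs : List ℕ), b ∈ bs → ∀ acc : ℕ, (badVal (sys.nets w) bs acc).testBit i = true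
  | [], h, _ => (List.not_mem_nil h).elim
  | c :: bs, h, acc => by
    by_cases hc : b = c
    · subst hc
      refine badVal_mono bs _ ?_
      show (acc ||| (plane b _ ^^^ permRun (sys.nets w) (plane b _))).testBit i = true
      have hN : sys.size ≤ 2 ^ 19 := by rw [size_eq]; norm_num
      have hj := permPos_lt (nets_ok' w) i hi
      rw [Nat.testBit_or, Nat.testBit_xor, testBit_permRun (nets_ok' w), testBit_plane, testBit_plane,
        Nat.sub_eq, show b + 1 + (18 - b) = 19 by omega,
        decide_eq_true (lt_of_lt_of_le hi hN), decide_eq_true (lt_of_lt_of_le hj hN),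
        Bool.true_and, Bool.true_and]
      revert hne
      cases i.testBit b <;> cases (permPos (sys.nets w) i).testBit b <;> simp
    · exact badVal_of_moved hb hi hne bs ((List.mem_cons.1 h).resolve_left hc) _

/-- value computed by `badAll` -/
noncomputable def allVal : List (List ℕ × List ℕ) → ℕ → ℕ
  | [], acc => acc
  | e :: ws, acc => allVal ws (badVal (sys.nets e.1) e.2 acc)

theorem badAll_eq : ∀ (ws : List (List ℕ × List ℕ)) (acc : ℕ) (k : ℕ → Bool),
    badAll ws acc k = k (allVal ws acc)
  | [], _, _ => rfl
  | e :: ws, acc, k => by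
    show badGo (sys.nets e.1) e.2 acc (fun a => badAll ws a k) = _
    rw [badGo_eq, badAll_eq ws]
    rfl

theorem allVal_of_fixed {i : ℕ} :
    ∀ (ws : List (List ℕ × List ℕ)) (acc : ℕ), (∀ e ∈ ws, permPos (sys.nets e.1) i = i) →
      (allVal ws acc).testBit i = acc.testBit i
  | [], _, _ => rfl
  | w :: ws, acc, h => by
    rw [allVal, allVal_of_fixed ws _ fun u hu => h u (List.mem_cons_of_mem _ hu),
      badVal_of_fixed (h w List.mem_cons_self)]

theorem mem_of_mask {i : ℕ} : ∀ {keep : List ℕ}, (mask keep).testBit i = true → i ∈ keep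
  | [], h => by simp [mask] at h
  | j :: keep, h => by
    change (Nat.lor (Nat.shiftLeft 1 j) (mask keep)).testBit i = true at h
    rw [show Nat.lor (Nat.shiftLeft 1 j) (mask keep) = (1 <<< j) ||| mask keep from rfl,
      Nat.testBit_or, Bool.or_eq_true, Nat.one_shiftLeft, Nat.testBit_two_pow] at h
    rcases h with h | h
    · exact (of_decide_eq_true h) ▸ List.mem_cons_self
    · exact List.mem_cons_of_mem _ (mem_of_mask h)

theorem fixOnly_spec {ws : List (List ℕ × List ℕ)} {keep : List ℕ} (h : fixOnly ws keep = true)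
    (i : Fin sys.size) (hfix : ∀ e ∈ ws, (pw perm e.1) i = i) : i.val ∈ keep := by
  rw [fixOnly, strict_eq, badAll_eq] at h
  have h' := congrArg (fun z => Nat.testBit z i.val) (Nat.eq_of_beq_eq_true h)
  simp only [testBit_full, decide_eq_true i.2] at h'
  rw [allVal_of_fixed ws _ fun w hw => by rw [← perm_pw_apply, hfix w hw]] at h'
  exact mem_of_mask h'

theorem fixMoved_spec {ws : List (List ℕ × List ℕ)} {m keep : List ℕ} (h : fixMoved ws m keep = true)
    (i : Fin sys.size) (hfix : ∀ e ∈ ws, (pw perm e.1) i = i) (hmove : (pw perm m) i ≠ i) :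
    i.val ∈ keep := by
  rw [fixMoved, strict_eq, badAll_eq, badGo_eq] at h
  have hbit : (badVal (sys.nets m) planes 0).testBit i.val = true := by
    have hne : permPos (sys.nets m) i.val ≠ i.val := fun e =>
      hmove (Fin.ext (by rw [perm_pw_apply, e]))
    obtain ⟨b, hb⟩ := Nat.exists_testBit_ne_of_ne hne
    have hb18 : b ≤ 18 := by
      by_contra hcon
      have hp : 2 ^ 19 ≤ 2 ^ b := Nat.pow_le_pow_right (by norm_num) (by omega)
      have hN : sys.size ≤ 2 ^ 19 := by rw [size_eq]; norm_num
      have hj := permPos_lt (nets_ok' m) i.val i.2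
      have := i.2
      exact hb (by rw [Nat.testBit_lt_two_pow (by omega), Nat.testBit_lt_two_pow (by omega)])
    refine badVal_of_moved hb18 i.2 (Ne.symm hb) planes ?_ 0
    have : ∀ b ≤ 18, b ∈ planes := by decide
    exact this b hb18
  have h' := congrArg (fun z => Nat.testBit z i.val) (Nat.eq_of_beq_eq_true h)
  simp only [testBit_full, decide_eq_true i.2] at h'
  rw [show Nat.lor (allVal ws (mask keep)) (Nat.xor sys.full (badVal (sys.nets m) planes 0)) =
      allVal ws (mask keep) ||| (sys.full ^^^ badVal (sys.nets m) planes 0) from rfl,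
    Nat.testBit_or, Nat.testBit_xor, testBit_full, decide_eq_true i.2, hbit,
    allVal_of_fixed ws _ fun w hw => by rw [← perm_pw_apply, hfix w hw]] at h'
  simp only [bne_self_eq_false', bne_self_eq_false, Bool.or_false] at h'
  exact mem_of_mask h'

end Cfsg.Agent.Lib.Fi24Aut41
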