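import Cfsg.Agent.Lib.Fi24Aut41.Checks

/-!
Elements of the derived subgroup of Fi24 commuting with an element of order 11 or with the even
subgroup of the generators beyond the third.
-/

set_option autoImplicit false
set_option maxRecDepth 100000

namespace Cfsg.Agent.Lib.Fi24Aut41

open Cfsg.Agent.Lib
open Cfsg.Agent.Lib.CosetTable.Lanes Cfsg.Agent.Lib.CosetTable.Lanes.Fi24

local notation "G24" => Cfsg.Spor.Fi24
local notation "G23" => Cfsg.Spor.Fi23

theorem phi_mul_apply (g h : G24) (i : Fin CosetTable.Lanes.Fi24.sys.size) :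
    phi (g * h) i = phi g (phi h i) := by rw [map_mul, Equiv.Perm.mul_apply]

theorem sub_decomp {h : G24} (hh : h ∈ sub) : (∃ a, iota a = h) ∨ ∃ a, iota a * gn 0 = h := by
  rcases derived_dichotomy h with h' | h'
  · exact Or.inl (iota_surj ⟨hh, h'⟩)
  · obtain ⟨a, ha⟩ := iota_surj (g := h * gn 0) ⟨mul_mem hh gn_zero_mem_sub, h'⟩
    exact Or.inr ⟨a, by rw [ha, mul_assoc, gn_mul_self, mul_one]⟩

theorem transpAt_seed1 : transpAt (mkPt seed1 seed1_lt) = gn 2 := by
  rw [← word1_pt, transpAt_phi, conj_word1]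

theorem seed1_eq : ∃ p < 31671, la p = mkPt seed1 seed1_lt := by
  obtain ⟨hq, hd⟩ := Fi23Aut62.qs_spec (s := 0) (by norm_num)
  refine ⟨_, hq, transpAt_injective ?_⟩
  rw [transpAt_la hq, hd, Fi23Aut62.gv_eq_gn (by norm_num), iota_gn (by norm_num), mul_assoc,
    gn_mul_self, mul_one, transpAt_seed1]

/-- every lane is the base, a member of the small orbit, or in the large orbit -/
theorem lane_cases (i : Fin CosetTable.Lanes.Fi24.sys.size) :
    i = pt ∨ (∃ p < 31671, la p = i) ∨ SameOrb (mkPt seed2 seed2_lt) i := by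
  obtain ⟨hall, -⟩ := orbits_spec
  rcases hall i with e | ⟨h, hh, e⟩ | e
  · exact Or.inl e
  · right; left
    obtain ⟨q, hq, hq'⟩ := seed1_eq
    rcases sub_decomp hh with ⟨a, rfl⟩ | ⟨a, rfl⟩
    · exact ⟨_, Fi23Aut62.pt_lt hq, by rw [← la_smul a hq, hq', e]⟩
    · exact ⟨_, Fi23Aut62.pt_lt hq, by rw [← la_smul a hq, ← e, phi_mul_apply, ← hq', la_l_fix hq]⟩
  · exact Or.inr (Or.inr e)

theorem l_fix_sameOrb {i : Fin CosetTable.Lanes.Fi24.sys.size}
    (h : SameOrb (mkPt seed2 seed2_lt) i) : phi (gn 0) i ≠ i := by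
  obtain ⟨x, hx, e⟩ := h
  intro hl
  rw [← e, ← phi_mul_apply, gn_zero_comm hx, phi_mul_apply] at hl
  have h2 := congrArg Fin.val ((phi x).injective hl)
  rw [phi_gn (by decide), perm_val] at h2
  exact pos_l_moves h2

/-- the stabilizer of a lane of the large orbit, inside the stabilizer of the base -/
noncomputable def stabTwo : Subgroup sub where
  carrier := {h | phi h.1 (mkPt seed2 seed2_lt) = mkPt seed2 seed2_lt}
  one_mem' := by
    show phi (1 : G24) _ = _
    rw [map_one]; rfl
  mul_mem' := by
    intro a b ha hb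
    show phi (a.1 * b.1) _ = _
    rw [phi_mul_apply, hb, ha]
  inv_mem' := by
    intro a ha
    show phi a.1⁻¹ _ = _
    conv_lhs => rw [← show phi a.1 (mkPt seed2 seed2_lt) = mkPt seed2 seed2_lt from ha]
    rw [← phi_mul_apply, inv_mul_cancel, map_one]; rfl

theorem index_stabTwo : stabTwo.index = 275264 := by
  let f : sub ⧸ stabTwo → Fin CosetTable.Lanes.Fi24.sys.size :=
    Quotient.lift (fun h => phi h.1 (mkPt seed2 seed2_lt)) (by
      intro a b hab
      have h : phi (a⁻¹ * b).1 (mkPt seed2 seed2_lt) = mkPt seed2 seed2_lt :=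
        QuotientGroup.leftRel_apply.1 hab
      have h' := congrArg (phi a.1) h
      rw [← phi_mul_apply, show a.1 * (a⁻¹ * b).1 = b.1 by simp] at h'
      exact h'.symm)
  have hinj : Function.Injective f := by
    intro x y
    induction x using QuotientGroup.induction_on with
    | H a =>
      induction y using QuotientGroup.induction_on with
      | H b =>
        intro e
        refine QuotientGroup.eq.2 ?_
        show phi (a.1⁻¹ * b.1) _ = _
        rw [phi_mul_apply, ← show phi a.1 _ = phi b.1 _ from e, ← phi_mul_apply, inv_mul_cancel,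
          map_one]
        rfl
  have hrange : Set.range f = {i | SameOrb (mkPt seed2 seed2_lt) i} := by
    ext i
    constructor
    · rintro ⟨x, rfl⟩
      induction x using QuotientGroup.induction_on with
      | H a => exact ⟨a.1, a.2, rfl⟩
    · rintro ⟨h, hh, e⟩
      exact ⟨((⟨h, hh⟩ : sub) : sub ⧸ stabTwo), e⟩
  have hcompl : {i | SameOrb (mkPt seed2 seed2_lt) i} = (insert pt (la '' Set.Iio 31671))ᶜ := by
    ext i
    constructor
    · intro hi hmem
      refine l_fix_sameOrb hi ?_
      rcases hmem with rfl | ⟨p, hp, rfl⟩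
      · exact sub_fix gn_zero_mem_sub
      · exact la_l_fix hp
    · intro hi
      rcases lane_cases i with e | ⟨p, hp, e⟩ | e
      · exact absurd (Or.inl e) hi
      · exact absurd (Or.inr ⟨p, hp, e⟩) hi
      · exact e
  have hpt : pt ∉ la '' Set.Iio 31671 := by
    rintro ⟨p, hp, e⟩
    exact la_ne_pt hp e
  have hla : Set.InjOn la (Set.Iio 31671) := fun p hp q hq e => la_injective hp hq e
  rw [Subgroup.index, ← Nat.card_range_of_injective hinj, hrange, hcompl, Nat.card_coe_set_eq,
    Set.ncard_compl, Set.ncard_insert_of_notMem hpt, hla.ncard_image, Nat.card_fin, size_eq,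
    Set.ncard_Iio_nat]

/-- elements of order 11 or 23 in the stabilizer of the base fix nothing in the large orbit -/
theorem no_fix_large {q : ℕ} (hq : q = 11 ∨ q = 23) {g : G24} (hg : g ∈ sub) (ho : orderOf g = q)
    {i : Fin CosetTable.Lanes.Fi24.sys.size} (hi : SameOrb (mkPt seed2 seed2_lt) i) :
    phi g i ≠ i := by
  obtain ⟨h, hh, rfl⟩ := hi
  intro e
  have hm : (⟨h⁻¹ * g * h, mul_mem (mul_mem (inv_mem hh) hg) hh⟩ : sub) ∈ stabTwo := by
    show phi (h⁻¹ * g * h) _ = _
    rw [phi_mul_apply, phi_mul_apply, e, ← phi_mul_apply, inv_mul_cancel, map_one]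
    rfl
  have hd := Subgroup.orderOf_dvd_natCard _ hm
  have hconj : orderOf (h⁻¹ * g * h) = q := by
    rw [show h⁻¹ * g * h = MulAut.conj h⁻¹ g by rw [MulAut.conj_apply, inv_inv], MulEquiv.orderOf_eq,
      ho]
  rw [← Subgroup.orderOf_coe] at hd
  change orderOf (h⁻¹ * g * h) ∣ Nat.card stabTwo at hd
  rw [hconj] at hd
  have hc := stabTwo.card_mul_index
  rw [index_stabTwo, card_sub] at hc
  have hcard : Nat.card stabTwo = 29713078886400 :=
    Nat.eq_of_mul_eq_mul_right (by norm_num : (0 : ℕ) < 275264) (hc.trans (by norm_num))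
  rw [hcard] at hd
  rcases hq with rfl | rfl <;> omega

theorem centralizer_d_card {p : ℕ} (hp : p < 31671) :
    Nat.card (Subgroup.centralizer ({Fi23Aut62.d p} : Set G23)) = 129123503308800 := by
  haveI : Finite G23 := S1697.order_le.1
  have hidx : (Subgroup.centralizer ({Fi23Aut62.d p} : Set G23)).index = 31671 := by
    let f : G23 ⧸ Subgroup.centralizer ({Fi23Aut62.d p} : Set G23) → Fin 31671 :=
      Quotient.lift (fun h => ⟨Fi23Aut62.pt h p, Fi23Aut62.pt_lt hp⟩) (by
        intro a b hab
        have hm := (Fi23Three62.commute_d_iff _ hp).1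
          (Subgroup.mem_centralizer_singleton_iff.1 (QuotientGroup.leftRel_apply.1 hab))
        rw [Fi23Aut62.pt_mul] at hm
        refine Fin.ext ?_
        show Fi23Aut62.pt a p = Fi23Aut62.pt b p
        rw [← Fi23Aut62.pt_pt_inv a (Fi23Aut62.pt b p), hm])
    have hb : Function.Bijective f := by
      constructor
      · intro x y
        induction x using QuotientGroup.induction_on with
        | H a =>
          induction y using QuotientGroup.induction_on with
          | H b =>
            intro e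
            have e' : Fi23Aut62.pt a p = Fi23Aut62.pt b p := congrArg Fin.val e
            refine QuotientGroup.eq.2 (Subgroup.mem_centralizer_singleton_iff.2
              ((Fi23Three62.commute_d_iff _ hp).2 ?_))
            rw [Fi23Aut62.pt_mul, ← e', Fi23Aut62.pt_inv_pt]
      · rintro ⟨q, hq⟩
        refine ⟨((Fi23Aut62.tr q * (Fi23Aut62.tr p)⁻¹ : G23) : _), Fin.ext ?_⟩
        show Fi23Aut62.pt (Fi23Aut62.tr q * (Fi23Aut62.tr p)⁻¹) p = q
        rw [Fi23Aut62.pt_mul, ← congrArg (Fi23Aut62.pt (Fi23Aut62.tr p)⁻¹) (Fi23Aut62.pt_tr hp),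
          Fi23Aut62.pt_inv_pt, Fi23Aut62.pt_tr hq]
    rw [Subgroup.index, Nat.card_eq_of_bijective f hb, Nat.card_fin]
  have h := (Subgroup.centralizer ({Fi23Aut62.d p} : Set G23)).card_mul_index
  rw [hidx, Fi23Aut62.card_G] at h
  omega

theorem fix_x {i : Fin CosetTable.Lanes.Fi24.sys.size}
    (h : phi (iota (Fi23Aut62.se 0)) i = i) : i = pt := by
  have ho : orderOf (iota (Fi23Aut62.se 0)) = 23 := by
    rw [orderOf_injective iota iota_injective, Fi23Aut62.order_se0]
  rcases lane_cases i with e | ⟨p, hp, rfl⟩ | e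
  · exact e
  · exfalso
    haveI : Finite G23 := S1697.order_le.1
    rw [la_smul _ hp] at h
    have hfix := la_injective (Fi23Aut62.pt_lt hp) hp h
    have hcom := (Fi23Three62.commute_d_iff _ hp).2 hfix
    have hd := Subgroup.orderOf_dvd_natCard (Subgroup.centralizer ({Fi23Aut62.d p} : Set G23))
      (x := Fi23Aut62.se 0) (Subgroup.mem_centralizer_singleton_iff.2 hcom)
    rw [Fi23Aut62.order_se0] at hd
    have hidx := centralizer_d_card hp
    rw [hidx] at hd
    omega
  · exact absurd h (no_fix_large (Or.inr rfl) (iota_mem _).1 ho e)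

theorem fix_y {i : Fin CosetTable.Lanes.Fi24.sys.size}
    (h : phi (iota (Fi23Aut62.se 1)) i = i) : i = pt ∨ i = la fixA ∨ i = la fixB := by
  have ho : orderOf (iota (Fi23Aut62.se 1)) = 11 := by
    rw [orderOf_injective iota iota_injective, order_se1]
  rcases lane_cases i with e | ⟨p, hp, rfl⟩ | e
  · exact Or.inl e
  · right
    rw [la_smul _ hp] at h
    have hfix := la_injective (Fi23Aut62.pt_lt hp) hp h
    rw [Fi23Aut62.pt_se (by norm_num) hp] at hfix
    have hc := fixY_ok p hp
    simp only [fixYOK, CosetTable.iteB_eq, CosetTable.beq_iff.2 hfix, cond_true,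
      Fi23Aut62.memL_iff] at hc
    simp only [List.mem_cons, List.not_mem_nil, or_false] at hc
    rcases hc with rfl | rfl
    · exact Or.inl rfl
    · exact Or.inr rfl
  · exact absurd h (no_fix_large (Or.inl rfl) (iota_mem _).1 ho e)

theorem phi_fix_of_commute {g h : G24} (hc : Commute g h) {i : Fin CosetTable.Lanes.Fi24.sys.size}
    (hi : phi h i = i) : phi h (phi g i) = phi g i := by
  rw [← phi_mul_apply, ← hc.eq, phi_mul_apply, hi]

theorem mem_L_of_dichotomy {g : G24} (h : sgn g = 1) : g ∈ commutator G24 := by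
  rcases derived_dichotomy g with h' | h'
  · exact h'
  · have h2 := MonoidHom.mem_ker.1 (commutator_le_ker h')
    rw [map_mul, sgn_gn, h, one_mul] at h2
    exact absurd h2 (by decide)

theorem exists_rep (i : Fin CosetTable.Lanes.Fi24.sys.size) :
    ∃ x ∈ commutator G24, phi x pt = i := by
  obtain ⟨x, hx⟩ := reach i
  rcases derived_dichotomy x with h | h
  · exact ⟨x, h, hx⟩
  · exact ⟨x * gn 0, h, by rw [phi_mul_apply, sub_fix gn_zero_mem_sub, hx]⟩

theorem iota_mem_L (h : G23) : iota h ∈ commutator G24 := (iota_mem h).2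

theorem fix_base_of_fix {p : ℕ} (hp : p = fixA ∨ p = fixB) {g : G24} (hg : g ∈ commutator G24)
    (hc : Commute g (iota (Fi23Aut62.se 1))) (hfix : phi g (la p) = la p) : phi g pt = pt := by
  haveI : Finite G23 := S1697.order_le.1
  have hp' : p < 31671 := by rcases hp with rfl | rfl <;> decide
  set y := iota (Fi23Aut62.se 1) with hy
  set S : Set G24 := {g | g ∈ commutator G24 ∧ Commute g y ∧ phi g (la p) = la p} with hS
  set C : Set G23 := {e | Commute e (Fi23Aut62.se 1)} with hC
  have hsub : iota '' C ⊆ S := by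
    rintro _ ⟨e, he, rfl⟩
    refine ⟨iota_mem_L e, Commute.map he iota, ?_⟩
    rw [la_smul e hp']
    rcases hp with rfl | rfl
    · rw [(fix_of_commute he).1]
    · rw [(fix_of_commute he).2]
  obtain ⟨x, hxL, hx⟩ := exists_rep (la p)
  have hyp : phi y (la p) = la p := (hsub ⟨_, Commute.refl _, rfl⟩).2.2
  obtain ⟨e, he⟩ := iota_of_fix (g := x⁻¹ * y * x)
    (by rw [phi_mul_apply, phi_mul_apply, hx, hyp, ← hx, ← phi_mul_apply, inv_mul_cancel, map_one]
        rfl)
    (mul_mem (mul_mem (inv_mem hxL) (iota_mem_L _)) hxL)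
  have hoe : orderOf e = 11 := by
    rw [← orderOf_injective iota iota_injective, he,
      show x⁻¹ * y * x = MulAut.conj x⁻¹ y by rw [MulAut.conj_apply, inv_inv],
      MulEquiv.orderOf_eq, hy, orderOf_injective iota iota_injective, order_se1]
  have hle : ((fun g => x⁻¹ * g * x) '' S) ⊆ iota '' {a : G23 | Commute a e} := by
    rintro _ ⟨g, ⟨hgL, hgc, hgf⟩, rfl⟩
    obtain ⟨a, ha⟩ := iota_of_fix (g := x⁻¹ * g * x)
      (by rw [phi_mul_apply, phi_mul_apply, hx, hgf, ← hx, ← phi_mul_apply, inv_mul_cancel, map_one]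
          rfl)
      (mul_mem (mul_mem (inv_mem hxL) hgL) hxL)
    refine ⟨a, iota_injective ?_, ha⟩
    show iota (a * e) = iota (e * a)
    rw [map_mul, map_mul, ha, he,
      show x⁻¹ * g * x * (x⁻¹ * y * x) = x⁻¹ * (g * y) * x by group, hgc.eq]
    group
  have hcard : ∀ b : G23, ({a : G23 | Commute a b} : Set G23).ncard =
      Nat.card (Subgroup.centralizer ({b} : Set G23)) := fun b => by
    rw [← Nat.card_coe_set_eq]
    refine Nat.card_congr ((Equiv.refl G23).subtypeEquiv fun a => ?_)
    exact Subgroup.mem_centralizer_singleton_iff.symm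
  have hfinS : (iota '' {a : G23 | Commute a e}).Finite := Set.toFinite _
  have h1 : ((fun g => x⁻¹ * g * x) '' S).ncard = S.ncard := Set.ncard_image_of_injective _
    fun a b hab => mul_left_cancel (mul_right_cancel hab)
  have h2 := Set.ncard_le_ncard hle hfinS
  rw [h1, Set.ncard_image_of_injective _ iota_injective, hcard, card_centralizer_eleven hoe] at h2
  have heq : iota '' C = S := Set.eq_of_subset_of_ncard_le hsub
    (by rw [Set.ncard_image_of_injective _ iota_injective, hC, hcard]; exact h2) (Set.toFinite _)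
  have hgS : g ∈ S := ⟨hg, hc, hfix⟩
  rw [← heq] at hgS
  obtain ⟨a, -, rfl⟩ := hgS
  exact phi_iota_pt a

theorem invol_fix {g : G24} (hg : g ∈ commutator G24) (h2 : g * g = 1)
    (hc : Commute g (iota (Fi23Aut62.se 1))) : phi g pt = pt := by
  have hsq : ∀ i, phi g (phi g i) = i := fun i => by
    rw [← phi_mul_apply, h2, map_one]; rfl
  have hy0 := phi_iota_pt (Fi23Aut62.se 1)
  have hA : fixA < 31671 := by decide
  have hB : fixB < 31671 := by decide
  have hnAB : la fixA ≠ la fixB := fun e => absurd (la_injective hA hB e) (by decide)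
  have hyB : phi (iota (Fi23Aut62.se 1)) (la fixB) = la fixB := by
    rw [la_smul _ hB, (fix_of_commute (Commute.refl _)).2]
  have hyA : phi (iota (Fi23Aut62.se 1)) (la fixA) = la fixA := by
    rw [la_smul _ hA, (fix_of_commute (Commute.refl _)).1]
  rcases fix_y (phi_fix_of_commute hc hy0) with e | e | e
  · exact e
  · refine fix_base_of_fix (Or.inr rfl) hg hc ?_
    rcases fix_y (phi_fix_of_commute hc hyB) with e' | e' | e'
    · exfalso
      have := hsq (la fixB)
      rw [e', e] at this
      exact hnAB this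
    · exfalso
      have := hsq (la fixB)
      rw [e', ← e, hsq] at this
      exact la_ne_pt hB this.symm
    · exact e'
  · refine fix_base_of_fix (Or.inl rfl) hg hc ?_
    rcases fix_y (phi_fix_of_commute hc hyA) with e' | e' | e'
    · exfalso
      have := hsq (la fixA)
      rw [e', e] at this
      exact hnAB this.symm
    · exact e'
    · exfalso
      have := hsq (la fixA)
      rw [e', ← e, hsq] at this
      exact la_ne_pt hA this.symm

/-- the products of two generators commuting with `gn 1` -/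
noncomputable def pgen (g : ℕ) : G24 := gn g * gn 3

theorem pgen_mem {g : ℕ} : pgen g ∈ commutator G24 :=
  mem_L_of_dichotomy (by rw [pgen, map_mul, sgn_gn, sgn_gn]; decide)

theorem pgen_fix {g : ℕ} (h4 : 4 ≤ g) (h12 : g < 12) : phi (pgen g) pt = pt :=
  sub_fix (mul_mem (gn_mem_sub h12 (by omega)) (gn_mem_sub (by decide) (by decide)))

theorem pw_pair {g : ℕ} (h12 : g < 12) : pw perm [g, 3] = phi (pgen g) := by
  rw [pgen, ← pw_phi [g, 3] (by simp [h12]), pw_cons, pw_cons, pw_nil, mul_one]

theorem gn_comm_far : ∀ a < 12, ∀ b < 12, adjI a b = false → Commute (gn a) (gn b) := by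
  intro a ha b hb h
  exact gn_comm a b (by simp [commB, Nat.blt_eq, ha, hb, h])

theorem commute_zero_pgen {g : ℕ} (h4 : 4 ≤ g) (h12 : g < 12) : Commute (gn 0) (pgen g) := by
  have : ∀ g < 12, 4 ≤ g → adjI 0 g = false ∧ adjI 0 3 = false := by decide
  exact (gn_comm_far 0 (by decide) g h12 (this g h12 h4).1).mul_right
    (gn_comm_far 0 (by decide) 3 (by decide) (this g h12 h4).2)

theorem commute_one_pgen {g : ℕ} (h4 : 4 ≤ g) (h12 : g < 12) : Commute (gn 1) (pgen g) := by
  have : ∀ g < 12, 4 ≤ g → adjI 1 g = false ∧ adjI 1 3 = false := by decide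
  exact (gn_comm_far 1 (by decide) g h12 (this g h12 h4).1).mul_right
    (gn_comm_far 1 (by decide) 3 (by decide) (this g h12 h4).2)

theorem transpAt_pt : transpAt pt = gn 0 := by simpa using transpAt_phi (1 : G24)

theorem transpAt_kl : transpAt (phi (gn 0 * gn 1) pt) = gn 1 := by
  rw [transpAt_phi]
  exact (braid_conj (by decide) (by decide) (by decide) (by decide)).symm

theorem lkc_val : (phi (gn 0 * gn 1) pt).val = 305281 := by
  rw [phi_mul_apply, k_pt, phi_gn (by decide)]
  exact (perm_val 0 _).trans (Nat.eq_of_beq_eq_true lkc_ok)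

theorem seed1_moved : Nat.beq (CosetTable.Lanes.Fi24.sys.pos 3 seed1) seed1 = false := by decide +kernel

theorem eq_one_of_commute_pgen {h : G24} (hh : h ∈ sub)
    (hp : ∀ g, 4 ≤ g → g < 12 → Commute h (pgen g))
    (hk : phi h (phi (gn 1) pt) = phi (gn 1) pt) : h = 1 := by
  have c0 : Commute h (gn 0) := commute_l_iff.2 hh
  have c1 : Commute h (gn 1) := by
    rw [← transpAt_kl, commute_transp_iff, phi_mul_apply, ← phi_mul_apply h, c0.eq, phi_mul_apply,
      hk]
  have l3 : ∀ g : G24, Commute g (gn 3) → phi g lane3 = lane3 := fun g hg =>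
    (commute_transp_iff g lane3).1 (transpAt_lane3.symm ▸ hg)
  have hu : phi h lane3 = lane3 := by
    have hm := fixOnly_spec fixT_ok (phi h lane3) (by
      intro w hw
      rcases testT_spec w hw with e | e | ⟨g, hg12, hg5, e⟩ <;> rw [e]
      · rw [← pw_phi [0] (by decide)]
        have e : pw gn [0] = gn 0 := by simp [pw]
        rw [e]
        exact phi_fix_of_commute c0 (l3 _ (gn_comm_far 0 (by decide) 3 (by decide) (by decide)))
      · rw [← pw_phi [1] (by decide)]
        have e : pw gn [1] = gn 1 := by simp [pw]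
        rw [e]
        exact phi_fix_of_commute c1 (l3 _ (gn_comm_far 1 (by decide) 3 (by decide) (by decide)))
      · rw [pw_pair hg12]
        refine phi_fix_of_commute (hp _ (by omega) hg12) (l3 _ ?_)
        have : ∀ g < 12, 5 ≤ g → adjI g 3 = false := by decide
        exact (gn_comm_far g hg12 3 (by decide) (this _ hg12 hg5)).mul_left
          (Commute.refl _))
    rw [List.mem_singleton] at hm
    exact Fin.ext hm
  have c3 : Commute h (gn 3) := transpAt_lane3 ▸ (commute_transp_iff h lane3).2 hu
  have cg : ∀ g, 3 ≤ g → g < 12 → Commute h (gn g) := by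
    intro g hg h12
    rcases eq_or_lt_of_le hg with rfl | h4
    · exact c3
    · have := (hp g h4 h12).mul_right c3
      rwa [pgen, mul_assoc, gn_mul_self, mul_one] at this
  set i2 := mkPt seed1 seed1_lt with hi2
  have t2 : transpAt i2 = gn 2 := by
    rw [hi2, ← word1_pt, transpAt_phi, conj_word1]
  have l2 : ∀ g : G24, Commute g (gn 2) → phi g i2 = i2 := fun g hg =>
    (commute_transp_iff g i2).1 (t2.symm ▸ hg)
  have h3move : phi (gn 3) i2 ≠ i2 := by
    intro e
    have := congrArg Fin.val e
    rw [phi_gn (by decide), perm_val] at this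
    have h' := seed1_moved
    rw [show CosetTable.Lanes.Fi24.sys.pos 3 seed1 = seed1 from this, Nat.beq_refl] at h'
    exact Bool.noConfusion h'
  have hu2 : phi h i2 = i2 := by
    have hm := fixMoved_spec fixTwo_ok (phi h i2) (by
      intro w hw
      obtain ⟨a, ha, ea, hadj, hcase⟩ := testTwo_spec w hw
      rw [ea]
      rw [← pw_phi [a] (by simpa using ha)]
      have e : pw gn [a] = gn a := by simp [pw]
      rw [e]
      refine phi_fix_of_commute ?_ (l2 _ (gn_comm_far a ha 2 (by decide) hadj))
      rcases hcase with rfl | h3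
      · exact c0
      · exact cg a h3 ha) (by
      rw [← pw_phi [3] (by decide)]
      have e : pw gn [3] = gn 3 := by simp [pw]
      rw [e]
      intro e'
      refine h3move ((phi h).injective ?_)
      rwa [← phi_mul_apply, c3.eq, phi_mul_apply])
    rw [List.mem_singleton] at hm
    exact Fin.ext hm
  have c2 : Commute h (gn 2) := t2 ▸ (commute_transp_iff h i2).2 hu2
  have call : ∀ y : G24, Commute h y := by
    intro y
    have hy : y ∈ Subgroup.closure (gn '' {g | g < 12}) := pw_gn_top ▸ Subgroup.mem_top y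
    induction hy using Subgroup.closure_induction with
    | mem z hz =>
      obtain ⟨g, hg, rfl⟩ := hz
      rcases g with _ | _ | _ | g
      exacts [c0, c1, c2, cg _ (by omega) hg]
    | one => exact Commute.one_right h
    | mul a b _ _ ha hb => exact ha.mul_right hb
    | inv a _ ha => exact ha.inv_right
  apply phi_injective
  rw [map_one]
  ext i : 1
  obtain ⟨y, rfl⟩ := reach i
  rw [← phi_mul_apply, (call y).eq, phi_mul_apply, sub_fix hh]
  rfl

/-- the element of order 3 -/
noncomputable def zz : G24 := gn 1 * gn 0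

theorem zz_mem : zz ∈ commutator G24 :=
  mem_L_of_dichotomy (by rw [zz, map_mul, sgn_gn, sgn_gn]; decide)

theorem zz_inv : zz⁻¹ = gn 0 * gn 1 := by rw [zz, mul_inv_rev, gn_inv, gn_inv]

theorem zz_pt : phi zz pt = phi (gn 1) pt := by
  rw [zz, phi_mul_apply, sub_fix gn_zero_mem_sub]

theorem zz_comm {g : ℕ} (h4 : 4 ≤ g) (h12 : g < 12) : Commute zz (pgen g) :=
  (commute_one_pgen h4 h12).mul_left (commute_zero_pgen h4 h12)

theorem eq_one_of_centralises {g : G24} (hg : g ∈ commutator G24) (hgf : phi g pt = pt)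
    (hp : ∀ a, 4 ≤ a → a < 12 → Commute g (pgen a)) : g = 1 := by
  have hsub : g ∈ sub := mem_sub_iff.2 hgf
  have hk : ∀ a, 4 ≤ a → a < 12 → phi (pgen a) (phi (gn 1) pt) = phi (gn 1) pt := fun a h4 h12 =>
    phi_fix_of_commute (commute_one_pgen h4 h12) (pgen_fix h4 h12)
  have hm := fixOnly_spec fixK_ok (phi g (phi (gn 1) pt)) (by
    intro w hw
    obtain ⟨a, h12, h4, ea⟩ := testK_spec w hw
    rw [ea, pw_pair h12]
    exact phi_fix_of_commute (hp _ h4 h12) (hk _ h4 h12))
  simp only [List.mem_cons, List.not_mem_nil, or_false] at hm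
  have hne : phi (gn 1) pt ≠ pt := by
    rw [k_pt]; exact fun e => absurd (congrArg Fin.val e) (by decide)
  rcases hm with e | e | e
  · have e' : phi g (phi (gn 1) pt) = phi g pt := (Fin.ext e).trans hgf.symm
    exact absurd ((phi g).injective e') hne
  · refine eq_one_of_commute_pgen hsub hp (Fin.ext ?_)
    rw [e, k_pt]; rfl
  · exfalso
    have hl : gn 0 * g = 1 := by
      refine eq_one_of_commute_pgen (mul_mem gn_zero_mem_sub hsub)
        (fun a h4 h12 => (commute_zero_pgen h4 h12).mul_left (hp a h4 h12)) ?_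
      have e' : phi g (phi (gn 1) pt) = phi (gn 0 * gn 1) pt := Fin.ext (e.trans lkc_val.symm)
      rw [phi_mul_apply, e', ← phi_mul_apply, ← mul_assoc, gn_mul_self, one_mul]
    rw [mul_eq_one_iff_eq_inv', gn_inv] at hl
    exact l_not_derived (hl ▸ hg)

theorem centralises_cases {g : G24} (hg : g ∈ commutator G24)
    (hp : ∀ a, 4 ≤ a → a < 12 → Commute g (pgen a)) : phi g pt = pt ∨ g = zz ∨ g = zz⁻¹ := by
  have hm := fixOnly_spec fixK_ok (phi g pt) (by
    intro w hw
    obtain ⟨a, h12, h4, ea⟩ := testK_spec w hw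
    rw [ea, pw_pair h12]
    exact phi_fix_of_commute (hp _ h4 h12) (pgen_fix h4 h12))
  simp only [List.mem_cons, List.not_mem_nil, or_false] at hm
  rcases hm with e | e | e
  · exact Or.inl (Fin.ext e)
  · right; left
    have e' : phi g pt = phi zz pt := Fin.ext (by rw [e, zz_pt, k_pt]; rfl)
    have h1 := eq_one_of_centralises (g := zz⁻¹ * g) (mul_mem (inv_mem zz_mem) hg)
      (by rw [phi_mul_apply, e', ← phi_mul_apply, inv_mul_cancel, map_one]; rfl)
      (fun a h4 h12 => (zz_comm h4 h12).inv_left.mul_left (hp a h4 h12))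
    exact (inv_mul_eq_one.1 h1).symm
  · right; right
    have e' : phi g pt = phi zz⁻¹ pt := Fin.ext (by rw [e, zz_inv, lkc_val])
    have h1 := eq_one_of_centralises (g := zz * g) (mul_mem zz_mem hg)
      (by rw [phi_mul_apply, e', ← phi_mul_apply, mul_inv_cancel, map_one]; rfl)
      (fun a h4 h12 => (zz_comm h4 h12).mul_left (hp a h4 h12))
    exact eq_inv_of_mul_eq_one_right h1

end Cfsg.Agent.Lib.Fi24Aut41
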