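import Cfsg.Agent.Lib.Fi24Aut41.Local
import Cfsg.Agent.S2080
import Cfsg.Prelude.Def_KGroupFacts

/-!
The outer automorphism group of the derived subgroup of the presented Fi24 has order 2.
-/

set_option autoImplicit false
set_option maxRecDepth 100000

namespace Cfsg.Agent.Lib.Fi24Aut41

open Cfsg.Agent.Lib
open Cfsg.Agent.Lib.CosetTable.Lanes Cfsg.Agent.Lib.CosetTable.Lanes.Fi24

local notation "G24" => Cfsg.Spor.Fi24
local notation "G23" => Cfsg.Spor.Fi23
local notation "L24" => Cfsg.Spor.Fi24'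

/-- Fi23 inside the derived subgroup -/
noncomputable def iotaL : G23 →* L24 := iota.codRestrict (commutator G24) iota_mem_L

theorem coe_iotaL (h : G23) : (iotaL h : G24) = iota h := rfl

theorem iotaL_injective : Function.Injective iotaL :=
  fun a b e => iota_injective (congrArg (fun y : L24 => (y : G24)) e)

theorem iotaL_of_fix {g : L24} (h : phi g.1 pt = pt) : ∃ a, iotaL a = g := by
  obtain ⟨a, ha⟩ := iota_of_fix h g.2
  exact ⟨a, Subtype.ext ha⟩

/-- the element of order 3 in the derived subgroup -/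
noncomputable def zL : L24 := ⟨zz, zz_mem⟩

/-- conjugation by `l` -/
noncomputable def conjL' : MulAut L24 := MulAut.conjNormal (gn 0)

theorem coe_conjL' (a : L24) : (conjL' a : G24) = gn 0 * a.1 * gn 0 := by
  rw [conjL', MulAut.conjNormal_apply, gn_inv]

theorem conjL'_iota (h : G23) : conjL' (iotaL h) = iotaL h :=
  Subtype.ext (by rw [coe_conjL', coe_iotaL, (comm_l_iota h).eq, mul_assoc, gn_mul_self, mul_one])

theorem conjL'_zL : conjL' zL = zL⁻¹ := Subtype.ext (by
  rw [coe_conjL', Subgroup.coe_inv]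
  show gn 0 * zz * gn 0 = zz⁻¹
  rw [zz_inv, zz, ← mul_assoc, mul_assoc, gn_mul_self, mul_one])

theorem zz_not_fix : phi zz pt ≠ pt := by
  rw [zz_pt, k_pt]
  exact fun e => absurd (congrArg Fin.val e) (by decide)

theorem closure_iota_zz : Subgroup.closure (insert zL (Set.range iotaL)) = ⊤ := by
  set M : Subgroup L24 := Subgroup.closure (insert zL (Set.range iotaL)) with hM
  have hz : zL ∈ M := Subgroup.subset_closure (Set.mem_insert _ _)
  have hi : ∀ h, iotaL h ∈ M := fun h => Subgroup.subset_closure (Set.mem_insert_of_mem _ ⟨h, rfl⟩)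
  have hinv : M ≤ M.comap conjL'.toMonoidHom := by
    rw [hM, Subgroup.closure_le]
    rintro x (rfl | ⟨h, rfl⟩)
    · show conjL' zL ∈ M
      rw [conjL'_zL]; exact inv_mem hz
    · show conjL' (iotaL h) ∈ M
      rw [conjL'_iota]; exact hi h
  set M' : Subgroup G24 := M.map (commutator G24).subtype with hM'
  have hconj : ∀ m ∈ M', gn 0 * m * gn 0 ∈ M' := by
    rintro _ ⟨m, hm, rfl⟩
    exact ⟨conjL' m, hinv hm, coe_conjL' m⟩
  let K : Subgroup G24 :=
    { carrier := {g | g ∈ M' ∨ g * gn 0 ∈ M'}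
      one_mem' := Or.inl (one_mem _)
      mul_mem' := by
        intro a b ha hb
        rcases ha with ha | ha <;> rcases hb with hb | hb
        · exact Or.inl (mul_mem ha hb)
        · exact Or.inr (by rw [mul_assoc]; exact mul_mem ha hb)
        · right
          have := mul_mem ha (hconj b hb)
          rwa [show a * gn 0 * (gn 0 * b * gn 0) = a * (gn 0 * gn 0) * (b * gn 0) by group,
            gn_mul_self, mul_one, ← mul_assoc] at this
        · left
          have := mul_mem ha (hconj _ hb)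
          rwa [show a * gn 0 * (gn 0 * (b * gn 0) * gn 0) =
              a * (gn 0 * gn 0) * (b * (gn 0 * gn 0)) by group, gn_mul_self, mul_one, mul_one] at this
      inv_mem' := by
        intro a ha
        rcases ha with ha | ha
        · exact Or.inl (inv_mem ha)
        · right
          have := hconj _ (inv_mem ha)
          rwa [mul_inv_rev, gn_inv, ← mul_assoc, gn_mul_self, one_mul] at this }
  have hsub : sub ≤ K := by
    intro h hh
    rcases sub_decomp hh with ⟨a, rfl⟩ | ⟨a, rfl⟩
    · exact Or.inl ⟨iotaL a, hi a, rfl⟩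
    · refine Or.inr ?_
      rw [mul_assoc, gn_mul_self, mul_one]
      exact ⟨iotaL a, hi a, rfl⟩
  have htop : K = ⊤ := sub_maximal hsub (Or.inl ⟨zL, hz, rfl⟩ : zz ∈ K)
    (fun h => zz_not_fix (sub_fix h))
  rw [eq_top_iff]
  rintro g -
  rcases (htop ▸ Subgroup.mem_top (g : G24) : (g : G24) ∈ K) with ⟨m, hm, e⟩ | ⟨m, hm, e⟩
  · rwa [Subtype.ext e.symm]
  · exfalso
    have h2 : gn 0 = (g : G24)⁻¹ * m.1 := by
      rw [show (m : G24) = g.1 * gn 0 from e, inv_mul_cancel_left]
    exact l_not_derived (h2 ▸ mul_mem (inv_mem g.2) m.2)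

theorem ext_auto {φ ψ : MulAut L24} (h : ∀ a, φ (iotaL a) = ψ (iotaL a)) (hz : φ zL = ψ zL) :
    φ = ψ := by
  have : φ.toMonoidHom = ψ.toMonoidHom := by
    refine MonoidHom.eq_of_eqOn_dense closure_iota_zz ?_
    rintro x (rfl | ⟨a, rfl⟩)
    · exact hz
    · exact h a
  exact MulEquiv.ext fun x => DFunLike.congr_fun this x

/-- an automorphism fixing Fi23 pointwise is trivial or conjugation by `l` -/
theorem eq_one_or_conjL' {ψ : MulAut L24} (h : ∀ a, ψ (iotaL a) = iotaL a) :
    ψ = 1 ∨ ψ = conjL' := by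
  have hp : ∀ a, 4 ≤ a → a < 12 → Commute (ψ zL).1 (pgen a) := by
    intro a h4 h12
    let pL : L24 := ⟨pgen a, pgen_mem⟩
    obtain ⟨b, hb⟩ := iotaL_of_fix (g := pL) (pgen_fix h4 h12)
    have hc : Commute (ψ zL) (ψ pL) :=
      Commute.map (show Commute zL pL from Subtype.ext (zz_comm h4 h12).eq) ψ
    have hpL : ψ pL = pL := by rw [← hb, h]
    rw [hpL] at hc
    exact congrArg Subtype.val hc.eq
  rcases centralises_cases (ψ zL).2 hp with e | e | e
  · exfalso
    obtain ⟨b, hb⟩ := iotaL_of_fix e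
    have hz : zL = iotaL b := ψ.injective (by rw [h, hb])
    exact zz_not_fix (show phi zL.1 pt = pt by rw [hz]; exact phi_iota_pt b)
  · exact Or.inl (ext_auto (fun a => h a) (Subtype.ext e))
  · refine Or.inr (ext_auto (fun a => by rw [h, conjL'_iota]) ?_)
    rw [conjL'_zL]
    exact Subtype.ext e

/-- the element of order 23 -/
noncomputable def xL : L24 := iotaL (Fi23Aut62.se 0)

theorem order_xL : orderOf xL = 23 := by
  rw [xL, orderOf_injective iotaL iotaL_injective, Fi23Aut62.order_se0]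

/-- the element of order 23 may be kept up to a power -/
theorem exists_conj_xL (y : L24) (hy : orderOf y = 23) :
    ∃ (a : L24) (k : ℕ), a * y * a⁻¹ = xL ^ k := by
  haveI : Fact (Nat.Prime 23) := ⟨by norm_num⟩
  have hf : (Nat.card L24).factorization 23 = 1 := by
    rw [card_derived, show (1255205709190661721292800 : ℕ) = 23 * 54574161269159205273600 by norm_num,
      Nat.factorization_mul (by norm_num) (by norm_num), Finsupp.add_apply,
      Nat.Prime.factorization_self (by norm_num),
      Nat.factorization_eq_zero_of_not_dvd (by norm_num)]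
  let P : Sylow 23 L24 := Sylow.ofCard (Subgroup.zpowers xL)
    (by rw [Nat.card_zpowers, order_xL, hf, pow_one])
  let Q : Sylow 23 L24 := Sylow.ofCard (Subgroup.zpowers y)
    (by rw [Nat.card_zpowers, hy, hf, pow_one])
  obtain ⟨a, ha⟩ := MulAction.exists_smul_eq L24 Q P
  have hm : (Q : Subgroup L24).map (MulAut.conj a).toMonoidHom = (P : Subgroup L24) := by
    rw [← ha]; rfl
  have hm' : a * y * a⁻¹ ∈ Subgroup.zpowers xL := by
    have : MulAut.conj a y ∈ (Q : Subgroup L24).map (MulAut.conj a).toMonoidHom :=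
      ⟨y, Subgroup.mem_zpowers y, rfl⟩
    rw [hm] at this
    exact this
  obtain ⟨k, hk⟩ := (mem_powers_iff_mem_zpowers (x := xL)).mpr hm'
  exact ⟨a, k, hk.symm⟩

theorem fix_of_twin {g : L24} (h : g * xL * g⁻¹ = xL * xL) : phi g.1 pt = pt := by
  have hx23 : xL = (xL * xL) ^ 12 := by
    have h23 : xL ^ 23 = 1 := by rw [← order_xL]; exact pow_orderOf_eq_one _
    rw [← pow_two, ← pow_mul, show 2 * 12 = 23 + 1 from rfl, pow_add, h23, one_mul, pow_one]
  have hfix : phi (xL * xL : L24).1 (phi g.1 pt) = phi g.1 pt := by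
    rw [← h]
    show phi (g.1 * xL.1 * g.1⁻¹) (phi g.1 pt) = _
    rw [← phi_mul_apply, inv_mul_cancel_right, phi_mul_apply,
      show phi xL.1 pt = pt from phi_iota_pt _]
  have hpow : ∀ n : ℕ, phi ((xL * xL) ^ n : L24).1 (phi g.1 pt) = phi g.1 pt := by
    intro n
    induction n with
    | zero => rw [pow_zero, Subgroup.coe_one, map_one]; rfl
    | succ n ih => rw [pow_succ, Subgroup.coe_mul, phi_mul_apply, hfix, ih]
  have h1 := hpow 12
  rw [← hx23] at h1
  exact fix_x h1

theorem invol_mem {e : G23} (he : orderOf e = 11) {g : L24} (h2 : g * g = 1)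
    (hc : Commute g (iotaL e)) : phi g.1 pt = pt := by
  haveI : Finite G23 := S1697.order_le.1
  haveI : Fact (Nat.Prime 11) := ⟨by norm_num⟩
  have hf : (Nat.card G23).factorization 11 = 1 := by
    rw [Fi23Aut62.card_G, show (4089470473293004800 : ℕ) = 11 * 371770043026636800 by norm_num,
      Nat.factorization_mul (by norm_num) (by norm_num), Finsupp.add_apply,
      Nat.Prime.factorization_self (by norm_num),
      Nat.factorization_eq_zero_of_not_dvd (by norm_num)]
  let P : Sylow 11 G23 := Sylow.ofCard (Subgroup.zpowers (Fi23Aut62.se 1))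
    (by rw [Nat.card_zpowers, order_se1, hf, pow_one])
  let Q : Sylow 11 G23 := Sylow.ofCard (Subgroup.zpowers e)
    (by rw [Nat.card_zpowers, he, hf, pow_one])
  obtain ⟨a, ha⟩ := MulAction.exists_smul_eq G23 Q P
  have hm : (Q : Subgroup G23).map (MulAut.conj a).toMonoidHom = (P : Subgroup G23) := by
    rw [← ha]; rfl
  have hmem : Fi23Aut62.se 1 ∈ (Q : Subgroup G23).map (MulAut.conj a).toMonoidHom := by
    rw [hm]; exact Subgroup.mem_zpowers _
  obtain ⟨b, hb, hb'⟩ := hmem
  obtain ⟨n, rfl⟩ : ∃ n : ℤ, e ^ n = b := Subgroup.mem_zpowers_iff.1 hb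
  have hb'' : a * e ^ n * a⁻¹ = Fi23Aut62.se 1 := hb'
  set g' := iotaL a * g * (iotaL a)⁻¹ with hg'
  have hc' : Commute g' (iotaL (Fi23Aut62.se 1)) := by
    rw [← hb'', map_mul, map_mul, map_zpow, map_inv, hg']
    exact (hc.zpow_right n).map (MulAut.conj (iotaL a)).toMonoidHom
  have h2' : g' * g' = 1 := by
    rw [hg', show iotaL a * g * (iotaL a)⁻¹ * (iotaL a * g * (iotaL a)⁻¹) =
      iotaL a * (g * g) * (iotaL a)⁻¹ by group, h2, mul_one, mul_inv_cancel]
  have h3 := invol_fix g'.2 (congrArg Subtype.val h2') (congrArg Subtype.val hc'.eq)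
  have e1 : phi g'.1 pt = phi (iota a) (phi g.1 pt) := by
    have ef : phi (iota a)⁻¹ pt = pt := by rw [← map_inv]; exact phi_iota_pt _
    show phi (iota a * g.1 * (iota a)⁻¹) pt = _
    rw [phi_mul_apply, ef, phi_mul_apply]
  rw [e1] at h3
  exact (phi (iota a)).injective (h3.trans (phi_iota_pt a).symm)

/-- up to an inner automorphism an automorphism fixes Fi23 pointwise -/
theorem exists_normalised (ψ : MulAut L24) :
    ∃ a : L24, ∀ h, (MulAut.conj a * ψ) (iotaL h) = iotaL h := by
  haveI : Finite G23 := S1697.order_le.1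
  obtain ⟨a, k, hk⟩ := exists_conj_xL (ψ xL) (by rw [MulEquiv.orderOf_eq, order_xL])
  set φ := MulAut.conj a * ψ with hφ
  have hφx : φ xL = xL ^ k := by rw [hφ, MulAut.mul_apply, MulAut.conj_apply, hk]
  have hx : phi (φ xL).1 pt = pt := by
    rw [hφx, xL, ← map_pow]; exact phi_iota_pt _
  -- the element of order 11 stays in the stabilizer
  have hy : phi (φ (iotaL (Fi23Aut62.se 1))).1 pt = pt := by
    have h1 : φ (iotaL (Fi23Aut62.se 1)) * φ xL * (φ (iotaL (Fi23Aut62.se 1)))⁻¹ = φ xL * φ xL := by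
      rw [← map_mul, ← map_inv, ← map_mul, ← map_mul]
      congr 1
      rw [xL, ← map_inv, ← map_mul, ← map_mul, ← map_mul, Fi23Aut62.se1_conj]
      congr 1
      group
    have hk0 : Nat.Coprime k 23 := by
      rw [Nat.coprime_comm]
      refine (Nat.Prime.coprime_iff_not_dvd (by norm_num)).2 fun hd => ?_
      obtain ⟨j, rfl⟩ := hd
      rw [pow_mul, ← order_xL, pow_orderOf_eq_one, one_pow] at hφx
      have h0 := congrArg orderOf ((MulEquiv.map_eq_one_iff φ).1 hφx)
      rw [order_xL, orderOf_one] at h0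
      omega
    obtain ⟨m, hm⟩ : ∃ m, xL ^ (k * m) = xL := by
      obtain ⟨m, hm⟩ := exists_pow_eq_self_of_coprime (x := xL) (n := k) (by rwa [order_xL])
      exact ⟨m, by rw [pow_mul]; exact hm⟩
    refine fix_of_twin ?_
    rw [hφx] at h1
    have h2 : (φ (iotaL (Fi23Aut62.se 1)) * xL ^ k * (φ (iotaL (Fi23Aut62.se 1)))⁻¹) ^ m =
        (xL ^ k * xL ^ k) ^ m := by rw [h1]
    rw [conj_pow, ← pow_mul, hm, ← pow_add, ← pow_mul, show (k + k) * m = k * m * 2 by ring,
      pow_mul, hm, pow_two] at h2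
    exact h2
  obtain ⟨e, he⟩ := iotaL_of_fix hy
  have hoe : orderOf e = 11 := by
    rw [← orderOf_injective iotaL iotaL_injective, he, MulEquiv.orderOf_eq,
      orderOf_injective iotaL iotaL_injective, order_se1]
  -- and the involution
  have hu : phi (φ (iotaL (Fi23Aut62.se 3))).1 pt = pt :=
    invol_mem hoe (by rw [← map_mul, ← map_mul, se3_sq, map_one, map_one])
      (by rw [he]; exact ((se3_comm.symm).map iotaL).map φ)
  have hall : ∀ h, phi (φ (iotaL h)).1 pt = pt := by
    intro h
    have hm : h ∈ gen013 := gen013_eq_top ▸ Subgroup.mem_top h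
    induction hm using Subgroup.closure_induction with
    | mem x hx' =>
      simp only [Set.mem_insert_iff, Set.mem_singleton_iff] at hx'
      rcases hx' with rfl | rfl | rfl
      exacts [hx, hy, hu]
    | one => rw [map_one, map_one, Subgroup.coe_one, map_one]; rfl
    | mul x y _ _ hx' hy' => rw [map_mul, map_mul, Subgroup.coe_mul, phi_mul_apply, hy', hx']
    | inv x _ hx' =>
      rw [map_inv, map_inv, Subgroup.coe_inv]
      conv_lhs => rw [← hx']
      rw [← phi_mul_apply, inv_mul_cancel, map_one]; rfl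
  choose σ hσ using fun h => iotaL_of_fix (hall h)
  let σ' : G23 →* G23 := MonoidHom.mk' σ fun x y =>
    iotaL_injective (by rw [map_mul, hσ, hσ, hσ, map_mul, map_mul])
  have hσinj : Function.Injective σ' := fun x y e => by
    have : φ (iotaL x) = φ (iotaL y) := by
      rw [← hσ x, ← hσ y]; exact congrArg iotaL e
    exact iotaL_injective (φ.injective this)
  let σe : MulAut G23 := MulEquiv.ofBijective σ' (Finite.injective_iff_bijective.1 hσinj)
  have hout : σe ∈ Cfsg.Inn G23 := by
    have h1 : (Cfsg.Inn G23).index = 1 := by rw [Subgroup.index]; exact Fi23Aut62.card_out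
    rw [Subgroup.index_eq_one] at h1
    rw [h1]; trivial
  obtain ⟨c, hc⟩ := hout
  refine ⟨(iotaL c)⁻¹ * a, fun h => ?_⟩
  rw [map_mul, mul_assoc, ← hφ, MulAut.mul_apply, MulAut.conj_apply, ← hσ h,
    show σ h = σe h from rfl, ← hc, MulAut.conj_apply, inv_inv, map_mul, map_mul, map_inv]
  group

theorem conjL'_not_inner : conjL' ∉ Cfsg.Inn L24 := by
  rintro ⟨g, hg⟩
  have hcomm : ∀ h, g * iotaL h = iotaL h * g := fun h => by
    have h1 : g * iotaL h * g⁻¹ = iotaL h := by rw [← MulAut.conj_apply, hg, conjL'_iota]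
    exact mul_inv_eq_iff_eq_mul.1 h1
  have hfix : phi g.1 pt = pt :=
    fix_x (phi_fix_of_commute (congrArg Subtype.val (hcomm (Fi23Aut62.se 0))) (phi_iota_pt _))
  obtain ⟨b, hb⟩ := iotaL_of_fix hfix
  haveI := S1697.result.1
  have hbc : b ∈ Subgroup.center G23 := Subgroup.mem_center_iff.2 fun h => iotaL_injective (by
    rw [map_mul, map_mul, hb, hcomm])
  have hb1 : b = 1 := by
    rcases IsSimpleGroup.eq_bot_or_eq_top_of_normal (Subgroup.center G23) inferInstance with e | e
    · rwa [e, Subgroup.mem_bot] at hbc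
    · exfalso
      have hcm : ∀ x y : G23, x * y = y * x := fun x y =>
        (Subgroup.mem_center_iff.1 (e ▸ Subgroup.mem_top y) x)
      have h2 := Fi23Aut62.se1_conj
      rw [hcm (Fi23Aut62.se 1), mul_assoc (Fi23Aut62.se 0) (Fi23Aut62.se 0)] at h2
      exact Fi23Aut62.se0_ne (mul_eq_right.1 (mul_left_cancel h2).symm)
  rw [hb1, map_one] at hb
  rw [← hb, map_one] at hg
  have h1 := congrArg Subtype.val (DFunLike.congr_fun hg zL)
  rw [MulAut.one_apply, conjL'_zL, Subgroup.coe_inv] at h1
  have h2 : phi zz pt = phi zz⁻¹ pt := congrArg (fun y => phi y pt) h1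
  have h3 := congrArg Fin.val h2
  rw [zz_pt, k_pt, zz_inv, lkc_val] at h3
  exact absurd h3 (by decide)

theorem card_out : Nat.card (Cfsg.Out Cfsg.Spor.Fi24') = 2 := by
  rw [← Subgroup.index, Subgroup.index_eq_two_iff]
  refine ⟨conjL', fun ψ => ?_⟩
  obtain ⟨a, ha⟩ := exists_normalised ψ
  have hin : MulAut.conj a ∈ Cfsg.Inn L24 := ⟨a, rfl⟩
  have hcases : ψ ∈ Cfsg.Inn L24 ∨ ψ * conjL' ∈ Cfsg.Inn L24 := by
    rcases eq_one_or_conjL' ha with e | e
    · left
      rw [eq_inv_of_mul_eq_one_right e]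
      exact inv_mem hin
    · right
      have e2 : conjL' * conjL' = 1 := MulEquiv.ext fun x => Subtype.ext (by
        rw [MulAut.mul_apply, coe_conjL', coe_conjL', MulAut.one_apply, ← mul_assoc, ← mul_assoc,
          gn_mul_self, one_mul, mul_assoc, gn_mul_self, mul_one])
      rw [eq_inv_mul_iff_mul_eq.2 e, mul_assoc, e2, mul_one]
      exact inv_mem hin
  rcases hcases with h | h
  · exact Or.inr ⟨h, fun h' => conjL'_not_inner ((Subgroup.mul_mem_cancel_left _ h).1 h')⟩
  · exact Or.inl ⟨h, fun h' => conjL'_not_inner ((Subgroup.mul_mem_cancel_left _ h').1 h)⟩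

end Cfsg.Agent.Lib.Fi24Aut41
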